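import Groth.Agent.CohFinite.ProjSpace
import Groth.Agent.S3557
import Groth.Agent.ProjMor.ProjSpaceBase
import Mathlib.RingTheory.KrullDimension.PID
import Mathlib.RingTheory.AlgebraicIndependent.TranscendenceBasis
import Mathlib.AlgebraicGeometry.FunctionField

/-!
The projective line over a field: charts, integrality, local dimension at closed points;
fields of transcendence degree one.
-/

set_option autoImplicit false
set_option backward.isDefEq.respectTransparency false
set_option linter.style.haveILetI false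

universe u

open CategoryTheory AlgebraicGeometry TopologicalSpace Polynomial
open Groth.Agent.QC (res resO)

noncomputable section

namespace Groth.Agent.CurveP1

variable (k : Type u) [Field k]

lemma X_mem (i : Fin 2) : (MvPolynomial.X i : MvPolynomial (Fin 2) k) ∈ CohB1.polyGrading 1 k 1 :=
  MvPolynomial.isHomogeneous_X k i

/-- The standard charts of the projective line are affine lines. -/
theorem exists_chart (i : Fin 2) :
    ∃ e : Γ(Proj (CohB1.polyGrading 1 k), Proj.basicOpen (CohB1.polyGrading 1 k) (MvPolynomial.X i)) ≃+* k[X],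
      ∀ c, e (GrT.deh _ (X_mem k i) (algebraMap k (MvPolynomial (Fin 2) k) c)) = Polynomial.C c := by
  let φ : MvPolynomial (Fin 2) k →+* k[X] :=
    MvPolynomial.eval₂Hom Polynomial.C (fun j => if j = i then 1 else Polynomial.X)
  have hφ : φ (MvPolynomial.X i) = 1 := by simp [φ]
  let ψ : k[X] →+* Γ(Proj (CohB1.polyGrading 1 k), Proj.basicOpen (CohB1.polyGrading 1 k) (MvPolynomial.X i)) :=
    Polynomial.eval₂RingHom ((GrT.deh _ (X_mem k i)).comp (algebraMap k (MvPolynomial (Fin 2) k)))
      (GrT.deh _ (X_mem k i) (MvPolynomial.X (i + 1)))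
  have hψ : ψ.comp φ = GrT.deh _ (X_mem k i) := by
    refine MvPolynomial.ringHom_ext (fun c => ?_) (fun j => ?_)
    · simp [φ, ψ, MvPolynomial.algebraMap_eq]
    · by_cases h : j = i
      · subst h
        rw [RingHom.comp_apply, hφ, map_one, GrT.deh_self]
      · obtain rfl : j = i + 1 := by
          fin_cases i <;> fin_cases j <;> simp_all
        simp [φ, ψ, h]
  refine ⟨RingEquiv.ofBijective (ProjMor.chartHom (X_mem k i) φ hφ) ⟨fun a b hab => ?_, fun p => ?_⟩, fun c => ?_⟩
  · obtain ⟨a, rfl⟩ := ProjMor.exists_deh_eq (X_mem k i) a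
    obtain ⟨b, rfl⟩ := ProjMor.exists_deh_eq (X_mem k i) b
    rw [ProjMor.chartHom_deh, ProjMor.chartHom_deh] at hab
    rw [← hψ, RingHom.comp_apply, RingHom.comp_apply, hab]
  · refine ⟨ψ p, ?_⟩
    induction p using Polynomial.induction_on' with
    | add p q hp hq => rw [map_add, map_add, hp, hq]
    | monomial m c =>
      have h : (i + 1 : Fin 2) ≠ i := by fin_cases i <;> simp
      simp [φ, ψ, ProjMor.chartHom_deh, h, Polynomial.C_mul_X_pow_eq_monomial]
  · rw [RingEquiv.ofBijective_apply, ProjMor.chartHom_deh]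
    simp [φ, MvPolynomial.algebraMap_eq]

theorem isIntegral : AlgebraicGeometry.IsIntegral (Proj (CohB1.polyGrading 1 k)) := by
  refine (Groth.Agent.S3557.result _ fun f _ hf => hf.eq_zero).2
    ⟨⟨MvPolynomial.X 0, HomogeneousIdeal.mem_irrelevant_of_mem _ one_pos (X_mem k 0), ?_⟩,
      fun f _ g _ h => mul_eq_zero.1 h⟩
  exact MvPolynomial.X_ne_zero 0

/-- A closed point on an affine line chart has a local ring of dimension one. -/
theorem ringKrullDim_stalk_of_chart {Y : Scheme.{u}} {U : Y.Opens} (hU : IsAffineOpen U)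
    (e : Γ(Y, U) ≃+* k[X]) (y : Y) (hyU : y ∈ U) (hy : IsClosed ({y} : Set Y)) :
    ringKrullDim (Y.presheaf.stalk y) = 1 := by
  letI := TopCat.Presheaf.algebra_section_stalk Y.presheaf ⟨y, hyU⟩
  haveI := hU.isLocalization_stalk ⟨y, hyU⟩
  haveI hmax : (hU.primeIdealOf ⟨y, hyU⟩).asIdeal.IsMaximal := by
    rw [← PrimeSpectrum.isClosed_singleton_iff_isMaximal]
    have : ({hU.primeIdealOf ⟨y, hyU⟩} : Set (PrimeSpectrum _)) = hU.fromSpec ⁻¹' {y} := by
      ext q
      simp only [Set.mem_singleton_iff, Set.mem_preimage]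
      refine ⟨fun h => h ▸ hU.fromSpec_primeIdealOf ⟨y, hyU⟩, fun h => ?_⟩
      exact hU.fromSpec.isOpenEmbedding.injective (h.trans (hU.fromSpec_primeIdealOf ⟨y, hyU⟩).symm)
    rw [this]
    exact hy.preimage hU.fromSpec.continuous
  rw [IsLocalization.AtPrime.ringKrullDim_eq_height (hU.primeIdealOf ⟨y, hyU⟩).asIdeal (Y.presheaf.stalk y)]
  haveI : ((hU.primeIdealOf ⟨y, hyU⟩).asIdeal.map e).IsMaximal := Ideal.map_isMaximal_of_equiv e
  have h1 := IsPrincipalIdealRing.height_eq_one_of_isMaximal
    ((hU.primeIdealOf ⟨y, hyU⟩).asIdeal.map e) (Polynomial.not_isField k)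
  rw [RingEquiv.height_map e] at h1
  exact_mod_cast h1

/-- The closed points of the projective line have local rings of dimension one. -/
theorem ringKrullDim_stalk (y : CohB1.ProjSpace 1 k) (hy : IsClosed ({y} : Set (CohB1.ProjSpace 1 k))) :
    ringKrullDim ((CohB1.ProjSpace 1 k).presheaf.stalk y) = 1 := by
  obtain ⟨⟨i⟩, hi⟩ := CohFinite.cov_X 1 k y
  obtain ⟨e, -⟩ := exists_chart k i
  exact ringKrullDim_stalk_of_chart k
    (Y := Proj (CohB1.polyGrading 1 k))
    (ProjLib.isAffineOpen_basicOpen _ (X_mem k i) one_pos) e y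
    ((ProjectiveSpectrum.mem_basicOpen _ _ y).mpr hi) hy

variable (K : Type u) [Field K] [Algebra k K]

/-- A field extension of transcendence degree one is algebraic over `k[X]`, sent to `k[t]`. -/
theorem exists_aeval (htr : Algebra.trdeg k K = 1) :
    ∃ t : K, Function.Injective (Polynomial.aeval t : k[X] →ₐ[k] K) ∧
      ∀ x : K, ∃ p : (k[X])[X], p ≠ 0 ∧ p.eval₂ (Polynomial.aeval t).toRingHom x = 0 := by
  obtain ⟨ι, x, hx⟩ := exists_isTranscendenceBasis' k K
  have hcard : Cardinal.mk ι = 1 := by rw [hx.cardinalMk_eq_trdeg, htr]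
  obtain ⟨hsub, ⟨i⟩⟩ := Cardinal.eq_one_iff_unique.1 hcard
  haveI : Unique ι := uniqueOfSubsingleton i
  have ht : Transcendental k (x i) := hx.1.transcendental i
  refine ⟨x i, transcendental_iff_injective.1 ht, fun z => ?_⟩
  have halg := hx.isAlgebraic
  have hr : Set.range x = {x i} := by
    ext; simp [Subsingleton.elim _ i, eq_comm]
  letI : Algebra k[X] K := (Polynomial.aeval (x i)).toRingHom.toAlgebra
  have hz := halg.isAlgebraic z
  have he : (Algebra.adjoin k (Set.range x)).toSubring = ((Polynomial.aeval (x i) : k[X] →ₐ[k] K) : k[X] →+* K).range := by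
    rw [hr, Algebra.adjoin_singleton_eq_range_aeval]
    rfl
  obtain ⟨p, hp0, hp⟩ := hz
  let f : k[X] →+* Algebra.adjoin k (Set.range x) :=
    (Polynomial.aeval (x i)).toRingHom.codRestrict _ fun q => by
      change _ ∈ (Algebra.adjoin k (Set.range x)).toSubring
      rw [he]; exact ⟨q, rfl⟩
  have hf : Function.Surjective f := fun a => by
    obtain ⟨q, hq⟩ : (a : K) ∈ ((Polynomial.aeval (x i) : k[X] →ₐ[k] K) : k[X] →+* K).range := he ▸ a.2
    exact ⟨q, Subtype.ext hq⟩
  obtain ⟨q, rfl⟩ := Polynomial.map_surjective f hf p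
  refine ⟨q, fun h => hp0 (by rw [h, Polynomial.map_zero]), ?_⟩
  rw [Polynomial.aeval_def, Polynomial.eval₂_map] at hp
  exact hp

variable {K} in
/-- A finitely generated field, algebraic over the image of `k[X]`, is finite over an intermediate field. -/
theorem finite_of_algebraic {F : Type u} [Field F] (φ : F →+* K) (ι : k[X] →+* F)
    (hι : Function.Injective ι) {t : K} (hφ : φ.comp ι = (Polynomial.aeval t : k[X] →ₐ[k] K).toRingHom)
    (hfg : (⊤ : IntermediateField k K).FG)
    (halg : ∀ x : K, ∃ p : (k[X])[X], p ≠ 0 ∧ p.eval₂ (Polynomial.aeval t).toRingHom x = 0) :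
    φ.Finite := by
  letI := φ.toAlgebra
  letI : Algebra k F := (ι.comp Polynomial.C).toAlgebra
  haveI : IsScalarTower k F K := IsScalarTower.of_algebraMap_eq fun c => by
    have := RingHom.congr_fun hφ (Polynomial.C c)
    simp only [RingHom.comp_apply, AlgHom.toRingHom_eq_coe, RingHom.coe_coe, Polynomial.aeval_C] at this
    exact this.symm
  have hint : ∀ x : K, IsIntegral F x := fun x => by
    obtain ⟨p, hp0, hp⟩ := halg x
    refine IsAlgebraic.isIntegral ⟨p.map ι, (Polynomial.map_ne_zero_iff hι).2 hp0, ?_⟩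
    rw [Polynomial.aeval_def, Polynomial.eval₂_map]
    rwa [← hφ] at hp
  obtain ⟨S, hS, hadj⟩ := IntermediateField.fg_def.1 hfg
  have htop : IntermediateField.adjoin F S = ⊤ := by
    refine eq_top_iff.2 fun x _ => ?_
    have : IntermediateField.adjoin k S ≤ (IntermediateField.adjoin F S).restrictScalars k :=
      IntermediateField.adjoin_le_iff.2 fun y hy => IntermediateField.subset_adjoin F S hy
    exact this (by rw [hadj]; trivial)
  haveI : Finite S := hS
  haveI := IntermediateField.finiteDimensional_adjoin (K := F) (S := S) fun x _ => hint x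
  rw [htop] at this
  exact Module.Finite.equiv (IntermediateField.topEquiv (F := F) (E := K)).toLinearEquiv

end Groth.Agent.CurveP1
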